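set_option autoImplicit false
namespace Cfsg.Agent.Lib.Helper6.TCD.G24aL
noncomputable def HL0 (i : Nat) : Nat := Nat.land (Nat.shiftRight 0x1231001131001131001111001031001031001011001031001041001021001021001021001021001011001021001021000f31000f41000f51000f31000f11000f41000f21000f01000f41000f41000f21000f31000f11000f51000f31000f11000f01000f41000f21000f31000f31000f31000f11000f21000f51000f31000f11000f51000f31000f01000f51000f21000f01000f21000f01000e21000e11000e01000e11000e31000e11000e51000e41000e11000e51000e41000e21000e31000e01000e11000e41000e41000e21000e31000e21000e01000e01000e11000e51000e31000e41000e01000e11000e51000e41000e11000e41000e21000e01000e01000e11000e51000e11000e51000e41000e21000e51000e31000e11000e21000e01000e51000e21000e51000e31000e11000e51000e01000e51000e11000e11000e51000e41000e51000e31000e01000e01000e11000e51000e31000e11000e11000e21000e01000e11000e51000e21000e31000e11000e31000d21000d01000d11000d11000d11000d51000d41000d11000d51000d41000d21000d51000d31000d21000d01000d01000d11000d51000d11000d41000d21000d51000d31000d11000d11000d21000d11000d51000d51000d41000d11000d11000d51000d41000d21000d51000d31000d11000d11000d51000d41000d51000d31000d01000d01000d11000d51000d11000d51000d31000d01000d11000d11000d51000d41000d51000d31000d01000d51000d31000d11000d11000d5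1000d11000d11000d51000d21000d51000d01000d11000d21000d51000d31000d01000d51000d01000d31000d11000c11000c51000c21000c01000c11000c51000c11000c51000c41000c21000c51000c31000c11000c11000c51000c41000c51000c31000c01000c51000c11000c11000c51000c41000c21000c51000c31000c01000c51000c31000c11000c11000c51000c01000c31000c11000c21000c51000c31000c11000c51000c21000c11000c51000c21000c11000c51000c31000c11000c51000c01000c31000c11000c11000c21000c11000b51000b11000b11000b51000b41000b51000b31000b01000b51000b31000b11000b51000b01000b51000b31000b11000b51000b21000b51000b11000b21000b31000b51000b21000b51000b31000b11000b51000b31000b51000b41000b21000b11000b21000b21000b31000b21000a51000a01000a51000a31000a11000a51000a21000a11000a51000a21000a51000a31000a51000a21000a31000a41000a51000a31000a51000a41000a51000a41000a11000a31000a21000a31000a31000a41000a31000911000951000921000951000931000921000951000931000951000941000951000931000941000921000951000941000931000901000941000941000931000941000941000911000941000941000821000851000831000851000841000831000851000841000801000851000851000841000831000811000841000821000831000841000811000841000821000841000821000831000731000751000741000701000741000711000751000741000721000731000711000741000721000731000731000711000641000611000641000621000651000631000601000631000611000621000541000521000531000511000521000501000431000421000411000321000301000211000151000001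 (Nat.mul 24 (Nat.land i 1023))) 16777215
end Cfsg.Agent.Lib.Helper6.TCD.G24aL
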