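set_option autoImplicit false
namespace Cfsg.Agent.Lib.Helper6.TCD.G24aL
noncomputable def HL1 (i : Nat) : Nat := Nat.land (Nat.shiftRight 0x1131001031001031001011000f31000f31000f11000f31000f41000f21000f21000f21000f21000f21000f21000f21000e31000e41000f31000e31000e11000e41000e21000000000e41000e41000e21000e31000000000000000e31000000000000000e41000e21000e31000e31000e31000e31000e21000e21000e31000e11000000000e31000e01000e31000e21000e01000e21000e01000000000000000e01000000000d31000000000000000d41000d11000e41000d41000d21000d31000000000000000d41000d41000d21000d31000d21000d01000000000000000000000d31000d41000d01000000000000000d41000d11000d41000d21000d01000000000000000000000d41000e21000d41000d21000e11000d31000d11000d21000d01000d21000d21000d31000d31000d11000e01000d01000d21000d11000000000000000d41000e41000d31000d01000d01000000000000000d31000d11000d11000d21000d01000d11000d11000d21000d31000d11000d31000000000000000d11000000000000000000000c41000000000000000c41000c21000d41000c31000c21000c01000000000000000000000c31000c41000c21000e21000c31000c11000000000c21000000000000000000000c41000c11000000000000000c41000c21000000000c31000c11000000000000000c41000e41000c31000c01000c01000e31000c31000c11000e31000c31000c01000c11000000000000000c41000d31000c31000c01000000000c31000c11000000000000000c11000000000000000c21000c21000c01000c11000c21000d11000c31000c01000d01000c01000c31000c11000000000c01000b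21000b01000000000000000000000000000b41000b21000000000b31000b11000000000000000b41000d31000b31000b01000000000b11000000000000000b41000b21000000000b31000b01000000000b31000b11000b11000d31000b01000b31000b11000b21000000000b31000b11000000000b21000000000000000b21000000000000000b31000b11000c01000b01000b31000b11000b11000b21000b11000000000a11000000000000000a41000000000a31000a01000000000a31000a11000000000a01000000000a31000a11000000000a21000a21000a11000a21000a31000000000a21000000000a31000000000000000a31000000000a41000a21000a11000a21000a21000a31000a21000000000901000000000931000911000000000921000911000000000921000000000931000931000921000931000941000000000931000000000941000000000941000911000931000921000931000931000941000931000811000000000821000000000831000821000000000831000000000841000841000831000841000821000000000841000831000801000841000841000831000841000841000811000841000841000721000000000731000000000741000731000000000741000701000841000711000741000731000711000741000721000731000741000711000741000721000741000721000731000631000000000641000601000641000611000731000641000621000631000611000641000621000631000631000611000541000511000541000521000601000531000501000531000511000521000441000421000431000411000421000401000331000321000311000221000201000111000001000000 (Nat.mul 24 (Nat.land i 1023))) 16777215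
end Cfsg.Agent.Lib.Helper6.TCD.G24aL
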