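set_option autoImplicit false
namespace Cfsg.Agent.Lib.Helper6.TCD.G24aL
noncomputable def HL2 (i : Nat) : Nat := Nat.land (Nat.shiftRight 0x611000000000000000000000000000000000000000811000000000811000000000000000000000821000711000000000521000721000000000a31000000000000000000000000000000000000000000000000000b21000b11000000000c11000721000000000711000411000721000b21000000000000000000000c11000a21000c11000000000b11000000000000000000000000000000000000000000000000000000000731000621000711000631000000000000000931000a31000921000000000000000000000000000000000000000000000000000000000000000000000000000000000000000531000621000000000000000000000000000921000b21000b21000931000a21000000000d21000d21000521000611000341000621000d21000731000831000531000a21000000000000000000000511000621000611000000000000000000000000000000000b11000000000000000831000631000731000731000a11000721000000000000000000000000000000000000000000000000000000000000000000000711000621000421000611000000000000000000000000000a31000821000811000921000000000000000621000000000000000000000000000000000000000000000000000000000000000000000631000000000000000000000831000b21000931000721000621000431000c21000401000521000501000931000000000000000000000631000721000731000000000000000511000000000000000000000000000000000000000621000721000000000821000721000631000821000541000611000821000601000000000811000521000711000000000000000000000000000000000000000000000000000511000000000000000000000711000911000811000000000711000000000000000000000000000000000000000000000000000000000a31000821000531000631000721000441000711000000000000000631000000000000000000000000000000000000000000000000000621000811000911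000821000721000711000711000711000000000611000000000000000000000000000000000000000000000000000911000000000000000000000000000000000000000000000711000531000611000621000000000000000000000000000000000000000000000000000000000611000811000711000611000621000000000000000000000000000000000000000000000000000000000000000000000000000000000621000511000521000531000000000000000000000000000000000000000000000521000000000621000521000531000000000000000000000000000000000000000000000000000000000000000000000531000421000431000411000000000000000000000000000431000000000000000531000431000421000000000000000000000000000000000000000000000000000000000000000000000431000411000331000321000000000331000311000000000000000421000331000311000000000000000000000000000000000000000000000000000000000321000231000211000221000000000000000000000221000000000000000000000000000000000000000211000121000101000000000111000000000000000000000000000001000000000000000000000000000000000000000000000000000000000000 (Nat.mul 24 (Nat.land i 1023))) 16777215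
end Cfsg.Agent.Lib.Helper6.TCD.G24aL
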